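import Cfsg.Agent.Lib.PGroups.PStableSL
import Cfsg.Agent.Lib.PSolvable.Basic
import Cfsg.Agent.Lib.ClassicalLinear.Simple
import Cfsg.Agent.S0261

/-!
Criteria for the absence of `SL(2,p)` sections, and `p`-stability as a consequence.
-/

set_option autoImplicit false
open Cfsg

namespace CfsgLib.PGroups

variable {G : Type*} [Group G] [Finite G] {p : ℕ} [hp : Fact p.Prime]

/-- Abelian Sylow 2-subgroups exclude `SL(2,p)` sections, `p` odd. -/
theorem SLFree.of_abelian_sylow_two (hp2 : p ≠ 2)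
    (hab : ∀ T : Sylow 2 G, IsMulCommutative T) : SLFree p G := by
  intro K f hf
  have : Fact (Nat.Prime 2) := ⟨Nat.prime_two⟩
  obtain ⟨T⟩ := (Sylow.nonempty : Nonempty (Sylow 2 K))
  obtain ⟨k, hk, ⟨e⟩⟩ := Cfsg.Agent.S0261.result (F := ZMod p)
    (by rw [ZMod.card]; exact hp.out.odd_of_ne_two hp2) (T.mapSurjective hf)
  obtain ⟨T', hT'⟩ := (T.2.map K.subtype).exists_le_sylow
  have hc := (hab T').is_comm.comm
  have hcomm : ∀ x y : (T.mapSurjective hf : Subgroup (Matrix.SpecialLinearGroup (Fin 2) (ZMod p))),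
      x * y = y * x := by
    rintro ⟨_, u, hu, rfl⟩ ⟨_, v, hv, rfl⟩
    have h := congrArg Subtype.val (hc ⟨(u : G), hT' ⟨u, hu, rfl⟩⟩ ⟨(v : G), hT' ⟨v, hv, rfl⟩⟩)
    have h' : u * v = v * u := Subtype.ext h
    exact Subtype.ext (by simp only [Subgroup.coe_mul, ← map_mul, h'])
  have hq := congrArg e (hcomm (e.symm (QuaternionGroup.xa 0)) (e.symm (QuaternionGroup.a 1)))
  rw [map_mul, map_mul, MulEquiv.apply_symm_apply, MulEquiv.apply_symm_apply,
    QuaternionGroup.xa_mul_a, QuaternionGroup.a_mul_xa] at hq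
  injection hq with hq
  have h4 : ((2 : ℕ) : ZMod (2 * 2 ^ k)) = 0 := by
    push_cast
    linear_combination hq
  rw [ZMod.natCast_eq_zero_iff] at h4
  have := Nat.le_of_dvd two_pos h4
  have : 2 ≤ 2 ^ k := Nat.le_self_pow (by omega) 2
  omega

/-- `p`-solvable groups have no `SL(2,p)` section for `p ≥ 5`. -/
theorem SLFree.of_isPSolvable (hp5 : 5 ≤ p) (h : IsPSolvable p G) : SLFree p G := by
  intro K f hf
  have hs : IsPSolvable p (Matrix.SpecialLinearGroup (Fin 2) (ZMod p)) :=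
    PSolvable.isPSolvable_of_surjective (PSolvable.isPSolvable_subgroup h K) hf
  have hq : IsPSolvable p (Matrix.ProjectiveSpecialLinearGroup (Fin 2) (ZMod p)) :=
    PSolvable.isPSolvable_quotient hs _
  have h2 : ((2 : ℕ) : ZMod p) ≠ 0 := fun h => by
    rw [ZMod.natCast_eq_zero_iff] at h
    have := Nat.le_of_dvd two_pos h
    omega
  have h3 : ((3 : ℕ) : ZMod p) ≠ 0 := fun h => by
    rw [ZMod.natCast_eq_zero_iff] at h
    have := Nat.le_of_dvd three_pos h
    omega
  have hne : ∃ a : ZMod p, a ≠ 0 ∧ a ^ 2 ≠ 1 := ⟨((2 : ℕ) : ZMod p), h2, fun h => h3 (by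
    push_cast at h ⊢
    linear_combination h)⟩
  have hsimple : IsSimpleGroup (Matrix.ProjectiveSpecialLinearGroup (Fin 2) (ZMod p)) :=
    ClassicalLinear.isSimpleGroup_psl (Or.inr hne)
  have htop := ClassicalLinear.commutator_psl_eq_top (ι := Fin 2) (F := ZMod p) (Or.inr hne)
  rcases PSolvable.isPGroup_or_coprime_of_isSimpleGroup hq with hP | hP
  · have := hP.isNilpotent
    exact (Group.IsSolvable.commutator_lt_top_of_nontrivial _).ne htop
  · let t : Matrix.SpecialLinearGroup (Fin 2) (ZMod p) :=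
      ⟨!![1, 1; 0, 1], by simp [Matrix.det_fin_two]⟩
    have hpow : ∀ n : ℕ, (!![1, 1; 0, 1] : Matrix (Fin 2) (Fin 2) (ZMod p)) ^ n
        = !![1, (n : ZMod p); 0, 1] := by
      intro n
      induction n with
      | zero => simp [Matrix.one_fin_two]
      | succ n ih => rw [pow_succ, ih, Matrix.mul_fin_two]; simp [add_comm]
    have ht : t ^ p = 1 := Subtype.ext <| by
      rw [Matrix.SpecialLinearGroup.coe_pow]
      show (!![1, 1; 0, 1] : Matrix (Fin 2) (Fin 2) (ZMod p)) ^ p = 1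
      rw [hpow, ZMod.natCast_self, Matrix.one_fin_two]
    let π := QuotientGroup.mk' (Subgroup.center (Matrix.SpecialLinearGroup (Fin 2) (ZMod p)))
    have ht1 : π t = 1 := orderOf_eq_one_iff.1 (Nat.eq_one_of_dvd_coprimes hP
      (orderOf_dvd_natCard _) (orderOf_dvd_of_pow_eq_one (by rw [← map_pow, ht, map_one])))
    have hc := Subgroup.mem_center_iff.1 ((QuotientGroup.eq_one_iff t).1 ht1)
      ⟨!![1, 0; 1, 1], by simp [Matrix.det_fin_two]⟩
    have hm : (!![1, 0; 1, 1] : Matrix (Fin 2) (Fin 2) (ZMod p)) * !![1, 1; 0, 1]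
        = !![1, 1; 0, 1] * !![1, 0; 1, 1] := congrArg Subtype.val hc
    rw [Matrix.mul_fin_two, Matrix.mul_fin_two] at hm
    have hc' := congrFun (congrFun hm 0) 0
    simp at hc'

end CfsgLib.PGroups
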