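/-
PGroups: elementary consequences of Sylow and transfer used by the transfer chapter.
-/
import Cfsg.Agent.Lib.Transfer.Abelian

set_option autoImplicit false

open scoped commutatorElement

namespace CfsgLib.PGroups

variable {G : Type*} [Group G] [Finite G] {p : ℕ} [hp : Fact p.Prime]

/-- For an abelian Sylow subgroup, `P ∩ Z(G) ∩ G'` is trivial. -/
theorem abelian_inf_center_inf_commutator (P : Sylow p G) (hP : IsMulCommutative P) :
    (P : Subgroup G) ⊓ Subgroup.center G ⊓ commutator G = ⊥ := by
  rw [eq_bot_iff, ← (CfsgLib.Transfer.abelian_decomp P hP).1]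
  rintro x ⟨⟨hxP, hxZ⟩, hxG⟩
  refine ⟨⟨hxP, fun y _ => Subgroup.mem_center_iff.1 hxZ y⟩, ?_⟩
  have h : x ∈ commutator G ⊓ (P : Subgroup G) := ⟨hxG, hxP⟩
  rw [Subgroup.commutator_inf_eq_focalSubgroup] at h
  exact CfsgLib.Transfer.focalSubgroup_le_commutator_of_control
    (CfsgLib.Transfer.abelian_sylow_control P hP) h

/-- An element conjugating `Z` into itself normalises it. -/
theorem mem_normalizer_of_map_eq {Z : Subgroup G} {v : G}
    (hv : Z.map (MulAut.conj v).toMonoidHom = Z) : v ∈ Subgroup.normalizer (Z : Set G) := by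
  refine Subgroup.mem_normalizer_iff.2 fun z => ?_
  conv_rhs => rw [← hv]
  exact (Subgroup.mem_map_iff_mem (MulAut.conj v).injective).symm

theorem map_eq_of_mem_normalizer {Z : Subgroup G} {v : G}
    (hv : v ∈ Subgroup.normalizer (Z : Set G)) : Z.map (MulAut.conj v).toMonoidHom = Z := by
  ext x
  constructor
  · rintro ⟨z, hz, rfl⟩
    exact (Subgroup.mem_normalizer_iff.1 hv z).1 hz
  · intro hx
    exact ⟨v⁻¹ * x * v, (Subgroup.mem_normalizer_iff.1 hv _).2 (by
      convert hx using 1; group), by simp [mul_assoc]⟩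

end CfsgLib.PGroups
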